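import Groth.Agent.CycB.RelDim4
import Groth.Agent.Ega1.ReducedSub
import Mathlib.Tactic

/-!
# Dimensions of locally closed subsets of schemes locally of finite type over a field,
through the transcendence degrees of residue fields
-/

set_option autoImplicit false
universe u

open CategoryTheory CategoryTheory.Limits AlgebraicGeometry TopologicalSpace

namespace K716.Td

open Groth.Agent.CycB Groth.Agent.CycB.RelDim Groth.Agent.CycB.TrdegAlg

variable {X Y Z S : Scheme.{u}}

/-- the transcendence degree of the residue field extension, as a natural number -/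
noncomputable def td (f : X ⟶ Y) (x : X) : ℕ := Cardinal.toNat (rtd f x)

theorem cast_td (f : X ⟶ Y) [LocallyOfFiniteType f] (x : X) : (td f x : Cardinal.{u}) = rtd f x :=
  Cardinal.cast_toNat_of_lt_aleph0 (rtd_lt_aleph0 f x)

theorem td_eq_of {f : X ⟶ Y} {x : X} {n : ℕ} (h : rtd f x = n) : td f x = n := by
  rw [td, h, Cardinal.toNat_natCast]

theorem td_comp (f : X ⟶ Y) (g : Y ⟶ Z) [LocallyOfFiniteType f] [LocallyOfFiniteType g] (x : X) :
    td (f ≫ g) x = td g (f x) + td f x := by
  apply td_eq_of
  rw [rtd_comp, ← cast_td f, ← cast_td g, Nat.cast_add]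

theorem td_of_isPreimmersion (f : X ⟶ Y) [IsPreimmersion f] (x : X) : td f x = 0 :=
  td_eq_of (by rw [rtd_eq_zero_of_isPreimmersion, Nat.cast_zero])

theorem td_lt_of_specializes (f : X ⟶ Y) [LocallyOfFiniteType f] {x x' : X} (h : x' ⤳ x)
    (hne : x' ≠ x) (hf : f x' = f x) : td f x < td f x' := by
  have := rtd_lt_of_specializes f h hne hf
  rw [← cast_td, ← cast_td] at this
  exact_mod_cast this

theorem td_le_of_specializes (f : X ⟶ Y) [LocallyOfFiniteType f] {x x' : X} (h : x' ⤳ x)
    (hf : f x' = f x) : td f x ≤ td f x' := by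
  by_cases hne : x' = x
  · rw [hne]
  · exact (td_lt_of_specializes f h hne hf).le

section Field

variable {k : Type u} [Field k] (q : X ⟶ Spec (CommRingCat.of k)) [LocallyOfFiniteType q]

theorem dim_closure (x : X) : topologicalKrullDim (closure {x} : Set X) = (td q x : ℕ) := by
  obtain ⟨n, hn, hn'⟩ := exists_dim_closure q (isAffineOpen_top _)
    ((Scheme.ΓSpecIso (CommRingCat.of k)).commRingCatIsoToRingEquiv.toMulEquiv.isField
      (Field.toIsField _)) x
  rw [hn', td_eq_of hn]

theorem le_dim (x : X) : ((td q x : ℕ) : WithBot ℕ∞) ≤ topologicalKrullDim X := by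
  rw [← dim_closure]
  exact topologicalKrullDim_subspace_le X _

theorem dim_le_iff (n : ℕ) : topologicalKrullDim X ≤ n ↔ ∀ x : X, td q x ≤ n := by
  constructor
  · intro h x
    exact_mod_cast (le_dim q x).trans h
  · intro h
    rw [Groth.Agent.VarietyB.DimTop.topologicalKrullDim_eq_iSup_irreducibleComponents]
    refine iSup_le fun T => ?_
    obtain ⟨z, hz⟩ := QuasiSober.sober T.2.1 (isClosed_of_mem_irreducibleComponents _ T.2)
    rw [← hz.def, dim_closure q]
    exact_mod_cast h z

end Field

section Sub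

variable {k : Type u} [Field k] (q : X ⟶ Spec (CommRingCat.of k)) [LocallyOfFiniteType q]
  {T : Set X} (hT : IsLocallyClosed T)

include hT

theorem le_dim_sub {x : X} (hx : x ∈ T) :
    ((td q x : ℕ) : WithBot ℕ∞) ≤ topologicalKrullDim T := by
  obtain ⟨W, i, hi, -, rfl⟩ := Groth.Agent.Ega1.ReducedSub.exists_reduced_immersion T hT
  obtain ⟨w, rfl⟩ := hx
  have h1 := le_dim (i ≫ q) w
  rw [td_comp, td_of_isPreimmersion i, add_zero] at h1
  refine h1.trans (le_of_eq ?_)
  exact (i.isEmbedding.toHomeomorph).isHomeomorph.topologicalKrullDim_eq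

theorem dim_sub_le_iff (n : ℕ) : topologicalKrullDim T ≤ n ↔ ∀ x ∈ T, td q x ≤ n := by
  constructor
  · intro h x hx
    exact_mod_cast (le_dim_sub q hT hx).trans h
  · intro h
    obtain ⟨W, i, hi, -, rfl⟩ := Groth.Agent.Ega1.ReducedSub.exists_reduced_immersion T hT
    rw [← (i.isEmbedding.toHomeomorph).isHomeomorph.topologicalKrullDim_eq, dim_le_iff (i ≫ q)]
    intro w
    rw [td_comp, td_of_isPreimmersion i, add_zero]
    exact h _ ⟨w, rfl⟩

end Sub

/-- bounds with a summand -/
theorem add_le_iff {ι : Type*} {P : ι → Prop} {a : WithBot ℕ∞} {t : ι → ℕ}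
    (h : ∀ n : ℕ, a ≤ n ↔ ∀ x, P x → t x ≤ n) (h0 : a = ⊥ ↔ ∀ x, ¬ P x) (j n : ℕ) :
    a + (j : WithBot ℕ∞) ≤ n ↔ ∀ x, P x → t x + j ≤ n := by
  by_cases ha : a = ⊥
  · rw [ha, WithBot.bot_add]
    exact ⟨fun _ x hx => absurd hx (h0.mp ha x), fun _ => bot_le⟩
  · obtain ⟨x₀, hx₀⟩ : ∃ x, P x := by
      by_contra hcon
      push Not at hcon
      exact ha (h0.mpr hcon)
    obtain ⟨b, rfl⟩ := WithBot.ne_bot_iff_exists.mp ha
    by_cases hj : j ≤ n
    · obtain ⟨m, rfl⟩ := Nat.exists_eq_add_of_le' hj
      have h1 : ((b : WithBot ℕ∞) + (j : WithBot ℕ∞) ≤ ((m + j : ℕ) : WithBot ℕ∞)) ↔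
          (b : WithBot ℕ∞) ≤ (m : ℕ) := by
        induction b using ENat.recTopCoe with
        | top =>
          constructor
          · intro h
            have : (⊤ : ℕ∞) + (j : ℕ∞) ≤ ((m + j : ℕ) : ℕ∞) := by exact_mod_cast h
            simp at this
          · intro h
            have : (⊤ : ℕ∞) ≤ (m : ℕ∞) := by exact_mod_cast h
            simp at this
        | coe b =>
          constructor
          · intro h
            have : b + j ≤ m + j := by exact_mod_cast h
            have : b ≤ m := by omega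
            exact_mod_cast this
          · intro h
            have : b ≤ m := by exact_mod_cast h
            have : b + j ≤ m + j := by omega
            exact_mod_cast this
      rw [h1, h m]
      exact forall₂_congr fun x _ => by omega
    · constructor
      · intro h1
        exfalso
        have h2 : (j : WithBot ℕ∞) ≤ n := by
          refine le_trans ?_ h1
          have : (j : ℕ∞) ≤ b + j := le_add_self
          exact_mod_cast this
        exact hj (by exact_mod_cast h2)
      · intro h1
        have := h1 x₀ hx₀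
        omega

theorem eq_bot_iff {T : Set X} : topologicalKrullDim T = ⊥ ↔ ∀ x, x ∉ T := by
  rw [topologicalKrullDim, Order.krullDim_eq_bot_iff]
  constructor
  · intro h x hx
    exact h.false ⟨closure {(⟨x, hx⟩ : T)}, isIrreducible_singleton.closure, isClosed_closure⟩
  · intro h
    refine ⟨fun Z => ?_⟩
    obtain ⟨⟨x, hx⟩, -⟩ := Z.isIrreducible.nonempty
    exact h x hx

theorem dim_sub_add_le_iff {k : Type u} [Field k] (q : X ⟶ Spec (CommRingCat.of k))
    [LocallyOfFiniteType q] {T : Set X} (hT : IsLocallyClosed T) (j n : ℕ) :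
    topologicalKrullDim T + (j : WithBot ℕ∞) ≤ n ↔ ∀ x ∈ T, td q x + j ≤ n :=
  add_le_iff (P := fun x => x ∈ T) (fun n => dim_sub_le_iff q hT n) eq_bot_iff j n

/-- the dimension of a fibre -/
theorem le_dim_fiber (f : X ⟶ Y) [LocallyOfFiniteType f] (x : X) :
    ((td f x : ℕ) : WithBot ℕ∞) ≤ topologicalKrullDim (f.fiber (f x)) := by
  obtain ⟨n, hn, hn'⟩ := exists_dim_closure_fiber f (f x) (f.asFiber x)
  rw [Scheme.Hom.fiberι_asFiber] at hn
  rw [td_eq_of hn, ← hn']
  exact topologicalKrullDim_subspace_le _ _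

theorem fiberι_mem (f : X ⟶ Y) (y : Y) (z : f.fiber y) : f (f.fiberι y z) = y := by
  have : f.fiberι y z ∈ Set.range (f.fiberι y) := ⟨z, rfl⟩
  rw [Scheme.Hom.range_fiberι] at this
  exact this

theorem dim_fiber_le_iff (f : X ⟶ Y) [LocallyOfFiniteType f] (y : Y) (n : ℕ) :
    topologicalKrullDim (f.fiber y) ≤ n ↔ ∀ x : X, f x = y → td f x ≤ n := by
  constructor
  · rintro h x rfl
    exact_mod_cast (le_dim_fiber f x).trans h
  · intro h
    rw [Groth.Agent.VarietyB.DimTop.topologicalKrullDim_eq_iSup_irreducibleComponents]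
    refine iSup_le fun T => ?_
    obtain ⟨z, hz⟩ := QuasiSober.sober T.2.1 (isClosed_of_mem_irreducibleComponents _ T.2)
    obtain ⟨n', hn, hn'⟩ := exists_dim_closure_fiber f y z
    rw [← hz.def, hn']
    have := h _ (fiberι_mem f y z)
    rw [td_eq_of hn] at this
    exact_mod_cast this

theorem le_dim_fiber_iff (f : X ⟶ Y) [LocallyOfFiniteType f] (y : Y) (n : ℕ) :
    (n : WithBot ℕ∞) ≤ topologicalKrullDim (f.fiber y) ↔ ∃ x : X, f x = y ∧ n ≤ td f x := by
  constructor
  · intro h
    by_contra hcon
    push Not at hcon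
    rcases Nat.eq_zero_or_pos n with rfl | hn
    · have hemp : IsEmpty (f.fiber y) := ⟨fun z => by
        have := hcon _ (fiberι_mem f y z)
        omega⟩
      rw [topologicalKrullDim, Order.krullDim_eq_bot_iff.mpr] at h
      · exact absurd h (by simp)
      · exact ⟨fun Z => hemp.false Z.isIrreducible.nonempty.some⟩
    · have h1 : topologicalKrullDim (f.fiber y) ≤ (n - 1 : ℕ) := by
        rw [dim_fiber_le_iff]
        intro x hx
        have := hcon x hx
        omega
      have h2 : n ≤ n - 1 := by exact_mod_cast h.trans h1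
      omega
  · rintro ⟨x, rfl, hx⟩
    exact le_trans (by exact_mod_cast hx) (le_dim_fiber f x)

end K716.Td
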