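import Groth.Agent.CharCyc.K716.Td
import Groth.Agent.VarietyB.DimRing
import Mathlib.RingTheory.Ideal.KrullsHeightTheorem

/-!
# Cutting by `c` equations lowers the dimension by at most `c`
-/

set_option autoImplicit false
universe u

open CategoryTheory CategoryTheory.Limits AlgebraicGeometry TopologicalSpace

namespace K716.Cut

open Groth.Agent.CycB Groth.Agent.CycB.RelDim K716.Td Groth.Agent.VarietyB

variable {C X : Scheme.{u}} {k : Type u} [Field k]

theorem dim_quotient (q : X ⟶ Spec (CommRingCat.of k)) [LocallyOfFiniteType q] {A : CommRingCat.{u}}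
    (j : Spec A ⟶ X) [IsOpenImmersion j] (y : PrimeSpectrum A) :
    ringKrullDim (A ⧸ y.asIdeal) = (td q (j y) : ℕ) := by
  have h0 : td (j ≫ q) y = td q (j y) := by
    have h := td_comp j q (show Spec A from y)
    rw [td_of_isPreimmersion j, add_zero] at h
    exact h
  have h1 : topologicalKrullDim (closure ({y} : Set (PrimeSpectrum A))) = (td (j ≫ q) y : ℕ) :=
    dim_closure (j ≫ q) y
  rw [← h0, ← h1]
  have h2 : closure ({y} : Set (PrimeSpectrum A)) =
      Set.range (PrimeSpectrum.comap (Ideal.Quotient.mk y.asIdeal)) := by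
    rw [PrimeSpectrum.closure_singleton,
      _root_.range_comap_of_surjective _ _ Ideal.Quotient.mk_surjective, Ideal.mk_ker]
  have h3 : topologicalKrullDim (closure ({y} : Set (PrimeSpectrum A))) =
      ringKrullDim (A ⧸ y.asIdeal) := by
    rw [h2, ← PrimeSpectrum.topologicalKrullDim_eq_ringKrullDim]
    exact ((PrimeSpectrum.isClosedEmbedding_comap_of_surjective _ _
      Ideal.Quotient.mk_surjective).isEmbedding.toHomeomorph.isHomeomorph.topologicalKrullDim_eq).symm
  exact h3.symm

/-- bound for primes minimal over `c` equations in a domain quotient -/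
theorem le_of_minimal (q : X ⟶ Spec (CommRingCat.of k)) [LocallyOfFiniteType q] {A : CommRingCat.{u}}
    (j : Spec A ⟶ X) [IsOpenImmersion j] (p x : PrimeSpectrum A) (hpx : p.asIdeal ≤ x.asIdeal)
    (rs : List A) (hrs : ∀ r ∈ rs, r ∈ x.asIdeal)
    (hmin : ∀ z : PrimeSpectrum A, p.asIdeal ≤ z.asIdeal → z.asIdeal ≤ x.asIdeal →
      (∀ r ∈ rs, r ∈ z.asIdeal) → z = x) :
    td q (j p) ≤ td q (j x) + rs.length := by
  have h1 := dim_quotient q j p
  have h2 := dim_quotient q j x
  obtain ⟨φ, hφ⟩ : ∃ φ : CommRingCat.of k ⟶ A, Spec.map φ = j ≫ q := ⟨_, Spec.map_preimage _⟩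
  have hft : φ.hom.FiniteType := by
    have : LocallyOfFiniteType (Spec.map φ) := by rw [hφ]; infer_instance
    exact (HasRingHomProperty.Spec_iff (P := @LocallyOfFiniteType)).mp this
  let _ : Algebra k A := φ.hom.toAlgebra
  have : Algebra.FiniteType k A := hft
  have : IsNoetherianRing A := Algebra.FiniteType.isNoetherianRing k A
  have h3 := DimRing.height_quotient_add_dim k hpx
  rw [h1, h2] at h3
  have hprime := DimRing.isPrime_map_quotient (q := p.asIdeal) (P := x.asIdeal) hpx
  let s : Set (A ⧸ p.asIdeal) := Ideal.Quotient.mk p.asIdeal '' {r | r ∈ rs}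
  have hs : s.Finite := (List.finite_toSet rs).image _
  have hcard : s.ncard ≤ rs.length := by
    classical
    refine (Set.ncard_image_le (List.finite_toSet rs)).trans ?_
    have : {r | r ∈ rs} = (rs.toFinset : Set A) := by ext; simp
    rw [this, Set.ncard_coe_finset]
    exact List.toFinset_card_le rs
  have hmem : (x.asIdeal.map (Ideal.Quotient.mk p.asIdeal)) ∈ (Ideal.span s).minimalPrimes := by
    refine ⟨⟨hprime, ?_⟩, ?_⟩
    · rw [Ideal.span_le]
      rintro _ ⟨r, hr, rfl⟩
      exact Ideal.mem_map_of_mem _ (hrs r hr)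
    · rintro Q ⟨hQ, hQs⟩ hle
      have hzp : (Q.comap (Ideal.Quotient.mk p.asIdeal)).IsPrime := Ideal.comap_isPrime _ _
      have hz := hmin ⟨Q.comap (Ideal.Quotient.mk p.asIdeal), hzp⟩ ?_ ?_ ?_
      · have hz' : Q.comap (Ideal.Quotient.mk p.asIdeal) = x.asIdeal :=
          congrArg PrimeSpectrum.asIdeal hz
        rw [← hz', Ideal.map_comap_of_surjective _ Ideal.Quotient.mk_surjective]
      · intro a ha
        rw [Ideal.mem_comap, Ideal.Quotient.eq_zero_iff_mem.mpr ha]
        exact Q.zero_mem
      · refine (Ideal.comap_mono hle).trans ?_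
        rw [DimRing.comap_map_quotient hpx]
      · intro r hr
        rw [Ideal.mem_comap]
        exact hQs (Ideal.subset_span ⟨r, hr, rfl⟩)
  have h4 := Ideal.height_le_card_of_mem_minimalPrimes_span hs hmem
  have h5 : ((td q (j p) : ℕ) : WithBot ℕ∞) ≤ ((rs.length + td q (j x) : ℕ) : WithBot ℕ∞) := by
    rw [← h3, Nat.cast_add]
    refine add_le_add ?_ le_rfl
    have h6 : (x.asIdeal.map (Ideal.Quotient.mk p.asIdeal)).height ≤ (rs.length : ℕ∞) :=
      h4.trans (by exact_mod_cast hcard)
    exact_mod_cast h6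
  have h7 : td q (j p) ≤ rs.length + td q (j x) := by exact_mod_cast h5
  omega

end K716.Cut
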