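import Groth.Agent.CharCyc.K716.Cut
import Groth.Prelude.Def_RegImm

/-!
# Preimages of regular immersions
-/

set_option autoImplicit false
universe u

open CategoryTheory CategoryTheory.Limits AlgebraicGeometry TopologicalSpace

namespace K716.CutSch

open K716.Td K716.Cut

variable {C X W : Scheme.{u}} {k : Type u} [Field k]

theorem mem_range_iff (ι : W ⟶ X) {U : X.Opens} (hU : IsAffineOpen U) (hcl : IsClosedImmersion (ι ∣_ U))
    (rs : List Γ(X, U)) (hrs : RingHom.ker (ι.app U).hom = Ideal.ofList rs) (x : X) (hx : x ∈ U) :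
    x ∈ Set.range ι ↔ ∀ r ∈ rs, x ∉ X.basicOpen r := by
  constructor
  · rintro ⟨w, rfl⟩ r hr h
    have h1 : r ∈ RingHom.ker (ι.app U).hom := by
      rw [hrs]
      exact Ideal.subset_span hr
    have h2 : w ∈ ι ⁻¹ᵁ (X.basicOpen r) := h
    rw [Scheme.preimage_basicOpen] at h2
    have h3 : (ι.app U) r = 0 := h1
    rw [h3, Scheme.basicOpen_zero] at h2
    exact h2
  · intro h
    by_contra hxr
    have hclosed : IsClosed (Set.range (ι ∣_ U)) := (ι ∣_ U).isClosedEmbedding.isClosed_range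
    have hxr' : (⟨x, hx⟩ : U) ∉ Set.range (ι ∣_ U) := by
      rintro ⟨w, hw⟩
      apply hxr
      refine ⟨(ι ⁻¹ᵁ U).ι w, ?_⟩
      rw [← Scheme.Hom.comp_apply, ← morphismRestrict_ι, Scheme.Hom.comp_apply, hw]
      rfl
    let O : X.Opens := U.ι ''ᵁ ⟨(Set.range (ι ∣_ U))ᶜ, hclosed.isOpen_compl⟩
    have hxO : x ∈ O := ⟨⟨x, hx⟩, hxr', rfl⟩
    obtain ⟨b, hb, hxb⟩ := hU.exists_basicOpen_le (V := O) ⟨x, hxO⟩ hx
    have haff : IsAffineOpen (ι ⁻¹ᵁ U) := by
      have : IsAffine (U : Scheme.{u}) := hU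
      exact isAffine_of_isAffineHom (ι ∣_ U)
    have h0 : W.basicOpen (ι.app U b) = ⊥ := by
      rw [← Scheme.preimage_basicOpen, _root_.eq_bot_iff]
      intro w hw
      have hwO : ι w ∈ O := hb hw
      obtain ⟨⟨y, hy⟩, hy', hyw⟩ := hwO
      exfalso
      apply hy'
      have hyw' : y = ι w := hyw
      subst hyw'
      refine ⟨⟨w, hy⟩, ?_⟩
      apply Subtype.ext
      exact congrArg (fun (f : (ι ⁻¹ᵁ U).toScheme ⟶ X) => f ⟨w, hy⟩) (morphismRestrict_ι ι U)
    obtain ⟨n, hn⟩ := (Scheme.isNilpotent_iff_basicOpen_eq_bot_of_isCompact haff.isCompact _).mpr h0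
    have h1 : b ^ n ∈ Ideal.ofList rs := by
      rw [← hrs, RingHom.mem_ker, map_pow]
      exact hn
    -- the prime ideal of `x`
    let P : Ideal Γ(X, U) := RingHom.ker (X.evaluation U x hx).hom
    have hP : ∀ a : Γ(X, U), a ∈ P ↔ x ∉ X.basicOpen a := by
      intro a
      rw [RingHom.mem_ker]
      have := X.evaluation_ne_zero_iff_mem_basicOpen (U := U) x hx a
      rw [← not_iff_not, not_not]
      exact this
    have h2 : Ideal.ofList rs ≤ P := by
      rw [Ideal.ofList, Ideal.span_le]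
      intro r hr
      exact (hP r).mpr (h r hr)
    have h3 : b ^ n ∈ P := h2 h1
    have hPp : P.IsPrime := RingHom.ker_isPrime _
    exact (hP b).mp (hPp.mem_of_pow_mem _ h3) hxb

/-- Cutting by a regular immersion of codimension `c`: the maximal points of the intersection. -/
theorem le_of_maximal (q : X ⟶ Spec (CommRingCat.of k)) [LocallyOfFiniteType q] (π : C ⟶ X)
    [LocallyOfFiniteType π] (ι : W ⟶ X) (κ : RegImm.Kind) (c : ℕ)
    (hι : RegImm.IsRegularImmersionOfCodim κ c ι) (p ξ : C) (hp : p ⤳ ξ)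
    (hξ : ξ ∈ π ⁻¹' Set.range ι)
    (hmax : ∀ z : C, p ⤳ z → z ⤳ ξ → z ∈ π ⁻¹' Set.range ι → z = ξ) :
    td (π ≫ q) p ≤ td (π ≫ q) ξ + c := by
  obtain ⟨w, hw⟩ := hξ
  obtain ⟨⟨U, hU⟩, hwU, hcl, rs, hlen, -, hker⟩ := hι.2 w
  have hξU : π ξ ∈ U := by
    have : ι w = π ξ := hw
    rw [← this]
    exact hwU
  obtain ⟨V, hV, hξV, hVU⟩ := exists_isAffineOpen_mem_and_subset (X := C) (x := ξ)
    (U := π ⁻¹ᵁ U) hξU
  have hVU' : V ≤ π ⁻¹ᵁ U := hVU
  let j := hV.fromSpec
  have hj : Set.range j = V := hV.range_fromSpec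
  have hpV : p ∈ V := hp.mem_open V.2 hξV
  obtain ⟨p', hp'⟩ : p ∈ Set.range j := by rw [hj]; exact hpV
  obtain ⟨x', hx'⟩ : ξ ∈ Set.range j := by rw [hj]; exact hξV
  have hjind : Topology.IsInducing j := j.isOpenEmbedding.isInducing
  -- translation of the membership
  have key : ∀ z : Spec Γ(C, V), (j z ∈ π ⁻¹' Set.range ι ↔
      ∀ r ∈ rs.map (π.appLE U V hVU').hom, r ∈ PrimeSpectrum.asIdeal z) := by
    intro z
    have hzV : j z ∈ V := by
      have : j z ∈ Set.range j := ⟨z, rfl⟩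
      rw [hj] at this
      exact this
    refine (mem_range_iff ι hU hcl rs hker (π (j z)) (hVU hzV)).trans ?_
    rw [List.forall_mem_map]
    refine forall₂_congr fun r _ => ?_
    rw [← not_iff_not, not_not]
    have h1 : (z ∈ hV.fromSpec ⁻¹ᵁ (C.basicOpen (π.appLE U V hVU' r))) ↔
        ¬ (π.appLE U V hVU').hom r ∈ PrimeSpectrum.asIdeal z := by
      rw [hV.fromSpec_preimage_basicOpen]
      exact Iff.rfl
    rw [← h1, Scheme.basicOpen_appLE]
    constructor
    · intro h
      exact ⟨hzV, h⟩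
    · intro h
      exact h.2
  have h := le_of_minimal (π ≫ q) j p' x' ?_ (rs.map (π.appLE U V hVU').hom) ?_ ?_
  · rw [hp', hx', List.length_map, hlen] at h
    exact h
  · refine (PrimeSpectrum.asIdeal_le_asIdeal _ _).mpr
      ((PrimeSpectrum.le_iff_specializes p' x').mpr ?_)
    apply hjind.specializes_iff.mp
    rw [hp', hx']
    exact hp
  · refine (key x').mp ?_
    rw [hx']
    exact ⟨w, hw⟩
  · intro z hz1 hz2 hz3
    apply j.isOpenEmbedding.injective
    rw [hx']
    apply hmax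
    · rw [← hp']
      have : p' ⤳ z := (PrimeSpectrum.le_iff_specializes p' z).mp hz1
      exact this.map j.continuous
    · rw [← hx']
      have : z ⤳ x' := (PrimeSpectrum.le_iff_specializes z x').mp hz2
      exact this.map j.continuous
    · exact (key z).mpr hz3

end K716.CutSch
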