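import Groth.Agent.CharCyc.K716.Td
import Groth.Agent.Flat2D.ConstrGen
import Groth.Agent.S1333
import Mathlib.AlgebraicGeometry.Noetherian

/-!
# The loci where the fibre dimension is large
-/

set_option autoImplicit false
universe u

open CategoryTheory CategoryTheory.Limits AlgebraicGeometry TopologicalSpace

namespace K716.DimB

open Groth.Agent.CycB Groth.Agent.CycB.RelDim K716.Td

variable {C X : Scheme.{u}}

/-- the locus of points whose fibre has dimension at least `j` -/
abbrev B (π : C ⟶ X) (j : ℕ) : Set X := {x : X | (j : WithBot ℕ∞) ≤ topologicalKrullDim (π.fiber x)}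

theorem mem_B_iff (π : C ⟶ X) [LocallyOfFiniteType π] (j : ℕ) (x : X) :
    x ∈ B π j ↔ ∃ c : C, π c = x ∧ j ≤ td π c := le_dim_fiber_iff π x j

theorem exists_specializes {k : Type u} [Field k] (q : X ⟶ Spec (CommRingCat.of k)) (π : C ⟶ X)
    [LocallyOfFiniteType q] [CompactSpace X] [LocallyOfFiniteType π] [CompactSpace C] (j : ℕ)
    {x : X} (hx : x ∈ closure (B π j)) : ∃ b ∈ B π j, b ⤳ x := by
  have : IsLocallyNoetherian X := LocallyOfFiniteType.isLocallyNoetherian q
  have : IsNoetherian X := { }
  have : LocallyOfFinitePresentation π := inferInstance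
  exact Groth.Agent.Flat2D.ConstrGen.exists_specializes_of_mem_closure'
    (Groth.Agent.S1333.isLocallyConstructible_le π j) hx

end K716.DimB
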