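import Groth.Agent.CharCyc.K716.WellInt

/-!
# Dimensions of preimages under base changes of a morphism all of whose fibres have dimension `d`
-/

set_option autoImplicit false
universe u

open CategoryTheory CategoryTheory.Limits AlgebraicGeometry TopologicalSpace

namespace K716.DimBC

open K716.Td Groth.Agent.CycB Groth.Agent.CycB.RelDim

theorem eq_of_forall_le_iff {a b : WithBot ℕ∞} (h0 : a = ⊥ ↔ b = ⊥) (h : ∀ n : ℕ, a ≤ n ↔ b ≤ n) :
    a = b := by
  suffices H : ∀ a b : WithBot ℕ∞, (b = ⊥ → a = ⊥) → (∀ n : ℕ, b ≤ n → a ≤ n) → a ≤ b from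
    le_antisymm (H a b h0.mpr fun n => (h n).mpr) (H b a h0.mp fun n => (h n).mp)
  intro a b h0 h
  induction b using WithBot.recBotCoe with
  | bot => rw [h0 rfl]
  | coe b =>
    induction b using ENat.recTopCoe with
    | top => exact le_top
    | coe b => exact h b le_rfl

variable {P X S S' : Scheme.{u}}

section

variable (h : X ⟶ S) (g : S' ⟶ S) [LocallyOfFiniteType g] (d : ℕ)
  (hd : ∀ s : S, topologicalKrullDim (g.fiber s) = d)

include hd

theorem td_le (s' : S') : td g s' ≤ d := by
  have h1 := le_dim_fiber g s'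
  rw [hd] at h1
  exact_mod_cast h1

theorem exists_td (s : S) : ∃ s' : S', g s' = s ∧ td g s' = d := by
  obtain ⟨s', hs', h1⟩ := (le_dim_fiber_iff g s d).mp (hd s).ge
  exact ⟨s', hs', le_antisymm (td_le g d hd s') h1⟩

theorem td_fst_le (t : ↥(pullback h g)) : td (pullback.fst h g) t ≤ d := by
  obtain ⟨t', ht', hft, hgen⟩ := exists_fibGeneric_specializes (pullback.fst h g) t
  refine (td_le_of_specializes _ ht' hft).trans ?_
  have := rtd_fst_of_fibGeneric_fst hgen
  rw [td, this]
  exact td_le g d hd _

theorem exists_td_fst (x : X) : ∃ t : ↥(pullback h g), pullback.fst h g t = x ∧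
    td (pullback.fst h g) t = d := by
  obtain ⟨s', hs', hs''⟩ := exists_td g d hd (h x)
  obtain ⟨t₀, ht₀, ht₀'⟩ := Scheme.Pullback.exists_preimage_pullback (f := h) (g := g) x s' hs'.symm
  obtain ⟨t, ht, hft, hgen⟩ := exists_fibGeneric_specializes (pullback.fst h g) t₀
  refine ⟨t, hft.trans ht₀, le_antisymm (td_fst_le h g d hd t) ?_⟩
  have h1 := rtd_fst_of_fibGeneric_fst hgen
  have h2 : pullback.snd h g t ⤳ s' := by
    rw [← ht₀']
    exact ht.map (pullback.snd h g).continuous
  have h3 : g (pullback.snd h g t) = g s' := by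
    rw [← Scheme.Hom.comp_apply, ← pullback.condition, Scheme.Hom.comp_apply, hft, ht₀, hs']
  have h4 := td_le_of_specializes g h2 h3
  rw [hs''] at h4
  refine h4.trans (le_of_eq ?_)
  rw [td, td, h1]

variable {h g} {a : P ⟶ X} {b : P ⟶ S'} (sq : IsPullback a b h g)

include sq

theorem td_isPullback_le (t : P) : td a t ≤ d := by
  have h1 : a = sq.isoPullback.hom ≫ pullback.fst h g := sq.isoPullback_hom_fst.symm
  rw [h1, td_comp, td_of_isPreimmersion sq.isoPullback.hom, add_zero]
  exact td_fst_le h g d hd _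

theorem exists_td_isPullback (x : X) : ∃ t : P, a t = x ∧ td a t = d := by
  obtain ⟨t, ht, ht'⟩ := exists_td_fst h g d hd x
  obtain ⟨t', rfl⟩ : ∃ t', sq.isoPullback.hom t' = t := by
    refine ⟨sq.isoPullback.inv t, ?_⟩
    rw [← Scheme.Hom.comp_apply, Iso.inv_hom_id]
    rfl
  have h2 : a = sq.isoPullback.hom ≫ pullback.fst h g := sq.isoPullback_hom_fst.symm
  refine ⟨t', ?_, ?_⟩
  · rw [h2, Scheme.Hom.comp_apply, ht]
  · rw [h2, td_comp, td_of_isPreimmersion sq.isoPullback.hom, add_zero, ht']

theorem dim_preimage {k : Type u} [Field k] (q : X ⟶ Spec (CommRingCat.of k))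
    [LocallyOfFiniteType q] {T : Set X} (hT : IsLocallyClosed T) :
    topologicalKrullDim (a ⁻¹' T) = topologicalKrullDim T + (d : WithBot ℕ∞) := by
  have : LocallyOfFiniteType a := MorphismProperty.of_isPullback sq.flip inferInstance
  have hT' : IsLocallyClosed (a ⁻¹' T) := hT.preimage a.continuous
  apply eq_of_forall_le_iff
  · rw [eq_bot_iff]
    constructor
    · intro h1
      have h2 : topologicalKrullDim T = ⊥ := by
        rw [eq_bot_iff]
        intro x hx
        obtain ⟨t, ht, -⟩ := exists_td_isPullback d hd sq x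
        exact h1 t (by rw [Set.mem_preimage, ht]; exact hx)
      rw [h2, WithBot.bot_add]
    · intro h1 t ht
      have h2 : topologicalKrullDim T = ⊥ := by
        by_contra hne
        obtain ⟨c, hc⟩ := WithBot.ne_bot_iff_exists.mp hne
        rw [← hc] at h1
        exact WithBot.coe_ne_bot (a := c + (d : ℕ∞)) (by exact_mod_cast h1)
      rw [eq_bot_iff] at h2
      exact h2 _ ht
  · intro n
    rw [dim_sub_le_iff (a ≫ q) hT', dim_sub_add_le_iff q hT]
    constructor
    · intro h1 x hx
      obtain ⟨t, ht, ht'⟩ := exists_td_isPullback d hd sq x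
      have h2 := h1 t (by rw [Set.mem_preimage, ht]; exact hx)
      rw [td_comp, ht, ht'] at h2
      exact h2
    · intro h1 t ht
      have h2 := h1 _ ht
      have h3 := td_isPullback_le d hd sq t
      rw [td_comp]
      omega

end

theorem add_le_add_iff (a s y z : WithBot ℕ∞) (d : ℕ) :
    (a + d) + (s + d) ≤ (y + d) + (z + d) ↔ a + s ≤ y + z := by
  have h1 : (a + d) + (s + d) = ((d + d : ℕ) : WithBot ℕ∞) + (a + s) := by
    push_cast
    abel
  have h2 : (y + d) + (z + d) = ((d + d : ℕ) : WithBot ℕ∞) + (y + z) := by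
    push_cast
    abel
  rw [h1, h2, WellInt.natCast_add_le_iff]

/-- the base change square of the self-products -/
theorem square (f : X ⟶ S) (g : S' ⟶ S) :
    ∃ Φ : pullback (pullback.snd f g) (pullback.snd f g) ⟶ pullback f f,
      IsPullback Φ (pullback.fst (pullback.snd f g) (pullback.snd f g) ≫ pullback.snd f g)
        (pullback.fst f f ≫ f) g ∧
      Φ ≫ pullback.fst f f = pullback.fst (pullback.snd f g) (pullback.snd f g) ≫ pullback.fst f g ∧
      Φ ≫ pullback.snd f f = pullback.snd (pullback.snd f g) (pullback.snd f g) ≫ pullback.fst f g ∧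
      ∀ p, Φ p ∈ Set.range (pullback.diagonal f) ↔
        p ∈ Set.range (pullback.diagonal (pullback.snd f g)) := by
  set f' := pullback.snd f g with hf'
  let Φ : pullback f' f' ⟶ pullback f f :=
    pullback.lift (pullback.fst f' f' ≫ pullback.fst f g) (pullback.snd f' f' ≫ pullback.fst f g) (by
      rw [Category.assoc, Category.assoc, pullback.condition, ← hf', pullback.condition_assoc])
  have hΦ1 : Φ ≫ pullback.fst f f = pullback.fst f' f' ≫ pullback.fst f g := pullback.lift_fst _ _ _
  have hΦ2 : Φ ≫ pullback.snd f f = pullback.snd f' f' ≫ pullback.fst f g := pullback.lift_snd _ _ _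
  have sq : IsPullback (pullback.fst f g) f' f g := IsPullback.of_hasPullback f g
  have sq1 : IsPullback (pullback.snd f' f') (pullback.fst f' f') f' f' :=
    (IsPullback.of_hasPullback f' f').flip
  have sq2 : IsPullback (pullback.snd f' f' ≫ pullback.fst f g) (pullback.fst f' f') f (f' ≫ g) :=
    sq1.paste_horiz sq
  have sq3 : IsPullback (pullback.snd f f) (pullback.fst f f) f f :=
    (IsPullback.of_hasPullback f f).flip
  have sq4 : IsPullback Φ (pullback.fst f' f') (pullback.fst f f) (pullback.fst f g) := by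
    refine IsPullback.of_right (h₁₂ := pullback.snd f f) (v₁₃ := f) (h₂₂ := f) ?_ hΦ1 sq3
    rw [hΦ2]
    have : f' ≫ g = pullback.fst f g ≫ f := pullback.condition.symm
    rw [← this]
    exact sq2
  refine ⟨Φ, sq4.paste_vert sq, hΦ1, hΦ2, fun p => ?_⟩
  have hcomm : pullback.diagonal f' ≫ Φ = pullback.fst f g ≫ pullback.diagonal f := by
    apply pullback.hom_ext
    · rw [Category.assoc, hΦ1, pullback.diagonal_fst_assoc, Category.assoc, pullback.diagonal_fst,
        Category.comp_id]
    · rw [Category.assoc, hΦ2, pullback.diagonal_snd_assoc, Category.assoc, pullback.diagonal_snd,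
        Category.comp_id]
  constructor
  · rintro ⟨x, hx⟩
    have sq5 : IsPullback (pullback.fst f g) (pullback.diagonal f') (pullback.diagonal f) Φ := by
      refine IsPullback.of_bot (h₃₁ := pullback.fst f g) (v₂₁ := pullback.fst f' f')
        (v₂₂ := pullback.fst f f) ?_ hcomm.symm sq4
      rw [pullback.diagonal_fst, pullback.diagonal_fst]
      exact IsPullback.of_vert_isIso ⟨by simp⟩
    obtain ⟨z, hz1, hz2⟩ := Scheme.Pullback.exists_preimage_pullback
      (f := pullback.diagonal f) (g := Φ) x p hx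
    refine ⟨sq5.isoPullback.inv z, ?_⟩
    rw [← Scheme.Hom.comp_apply, sq5.isoPullback_inv_snd]
    exact hz2
  · rintro ⟨x, rfl⟩
    refine ⟨pullback.fst f g x, ?_⟩
    rw [← Scheme.Hom.comp_apply, ← Scheme.Hom.comp_apply, hcomm]

end K716.DimBC
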