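import Groth.Agent.CharCyc.K716.Td
import Groth.Agent.Flat2D.ConstrGen
import Groth.Agent.Flat2D.NoethConstr
import Mathlib.AlgebraicGeometry.Noetherian
import Mathlib.AlgebraicGeometry.Morphisms.Separated

/-!
# Well intersecting closed subsets
-/

set_option autoImplicit false
universe u

open CategoryTheory CategoryTheory.Limits AlgebraicGeometry TopologicalSpace

namespace K716.WellInt

open K716.Td

theorem le_of_natCast_add_le {a : ℕ} {s z : WithBot ℕ∞} (h : (a : WithBot ℕ∞) + s ≤ a + z) : s ≤ z := by
  induction s using WithBot.recBotCoe with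
  | bot => exact bot_le
  | coe s =>
    induction z using WithBot.recBotCoe with
    | bot =>
      exfalso
      rw [WithBot.add_bot, le_bot_iff] at h
      exact WithBot.coe_ne_bot (a := (a : ℕ∞) + s) (by exact_mod_cast h)
    | coe z =>
      have h1 : (a : ℕ∞) + s ≤ a + z := by exact_mod_cast h
      have h2 : s ≤ z := (ENat.addLECancellable_of_ne_top (ENat.natCast_ne_top a)) h1
      exact_mod_cast h2

theorem natCast_add_le_iff {a : ℕ} {s z : WithBot ℕ∞} :
    (a : WithBot ℕ∞) + s ≤ a + z ↔ s ≤ z :=
  ⟨le_of_natCast_add_le, fun h => add_le_add le_rfl h⟩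

variable {X S : Scheme.{u}} {k : Type u} [Field k]

/-- `Y ×_S Z` without the diagonal -/
abbrev T (f : X ⟶ S) (Y Z : Set X) : Set ↥(pullback f f) :=
  {p | pullback.fst f f p ∈ Y ∧ pullback.snd f f p ∈ Z ∧ p ∉ Set.range (pullback.diagonal f)}

theorem isLocallyClosed_T (f : X ⟶ S) [IsSeparated f] {Y Z : Set X} (hY : IsClosed Y)
    (hZ : IsClosed Z) : IsLocallyClosed (T f Y Z) := by
  have h1 : IsClosed ((pullback.fst f f) ⁻¹' Y) := hY.preimage (pullback.fst f f).continuous
  have h2 : IsClosed ((pullback.snd f f) ⁻¹' Z) := hZ.preimage (pullback.snd f f).continuous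
  have h3 : IsOpen (Set.range (pullback.diagonal f))ᶜ :=
    (pullback.diagonal f).isClosedEmbedding.isClosed_range.isOpen_compl
  have h4 := (h1.isLocallyClosed.inter h2.isLocallyClosed).inter h3.isLocallyClosed
  convert h4 using 1
  ext p
  exact and_assoc.symm

/-- the dimension of an irreducible closed subset is the transcendence degree at a generic point -/
theorem dim_eq_of_isGenericPoint (q : X ⟶ Spec (CommRingCat.of k)) [LocallyOfFiniteType q] {Y : Set X}
    {y : X} (hy : IsGenericPoint y Y) : topologicalKrullDim Y = (td q y : ℕ) := by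
  rw [← hy.def]
  exact dim_closure q y

theorem le_of_mem (q : S ⟶ Spec (CommRingCat.of k)) (f : X ⟶ S) [LocallyOfFiniteType q]
    [LocallyOfFiniteType f] [IsSeparated f] {Y Z : Set X} (hY : IsClosed Y) (hZ : IsClosed Z)
    (hWI : topologicalKrullDim (T f Y Z) + topologicalKrullDim S ≤
      topologicalKrullDim Y + topologicalKrullDim Z) {y : X} (hy : IsGenericPoint y Y)
    {p : ↥(pullback f f)} (hp : p ∈ T f Y Z) (hpy : pullback.fst f f p = y) :
    topologicalKrullDim S ≤ topologicalKrullDim Z := by
  have h1 := le_dim_sub (pullback.fst f f ≫ f ≫ q) (isLocallyClosed_T f hY hZ) hp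
  have h2 : td (f ≫ q) y ≤ td (pullback.fst f f ≫ f ≫ q) p := by
    rw [td_comp (pullback.fst f f) (f ≫ q), hpy]
    omega
  rw [dim_eq_of_isGenericPoint (f ≫ q) hy] at hWI
  refine le_of_natCast_add_le (a := td (f ≫ q) y) (le_trans ?_ hWI)
  refine add_le_add (le_trans ?_ h1) le_rfl
  exact_mod_cast h2

end K716.WellInt
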